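import Cfsg.Agent.Spor.RuX.D0

set_option autoImplicit false
set_option maxRecDepth 100000000
set_option Elab.async false

namespace Cfsg.Agent.Spor.RuX

theorem uok0 : Net.okb 14 un0 = true := by decide +kernel

theorem uok1 : Net.okb 14 un1 = true := by decide +kernel

theorem uok2 : Net.okb 14 un2 = true := by decide +kernel

theorem rel1 : U.rel 14 [1, 1] 0 14 = true := by decide +kernel

theorem uok3 : Net.okb 14 un3 = true := by decide +kernel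

theorem rel2 : U.rel 14 [7, 1, 3, 3, 5, 4, 1] 0 14 = true := by decide +kernel

theorem rel3 : U.rel 14 [8, 6, 8, 6, 8, 6, 8, 6] 0 14 = true := by decide +kernel

theorem rel4 : U.rel 14 [3, 6, 4, 4, 6, 8, 3, 3, 5, 4, 8, 6, 7, 5, 5, 7] 0 14 = true := by decide +kernel

theorem rel5 : U.rel 14 [6, 8, 6, 8, 8, 6, 7, 5, 7, 5, 5, 7] 0 14 = true := by decide +kernel

theorem rel6 : U.rel 14 [6, 8, 3, 6, 4, 4, 6, 8, 6, 8, 3, 3, 5, 4, 6, 8] 0 14 = true := by decide +kernel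

theorem rel7 : U.rel 14 [3, 6, 4, 4, 3, 6, 4, 4, 6, 8, 5, 7, 6, 8, 8, 6] 0 14 = true := by decide +kernel

theorem rel8 : U.rel 14 [3, 6, 4, 4, 3, 6, 4, 4, 3, 6, 4, 4, 3, 6, 4, 4] 0 14 = true := by decide +kernel

theorem rel9 : U.rel 14 [3, 6, 4, 4, 3, 6, 4, 4, 8, 6, 3, 6, 4, 4, 8, 6, 8, 6, 3, 6, 4, 4, 8, 6] 0 14 = true := by decide +kernel

theorem rel10 : U.rel 14 [3, 6, 4, 4, 8, 6, 3, 6, 4, 4, 8, 6, 3, 6, 4, 4, 8, 6, 3, 6, 4, 4, 8, 6] 0 14 = true := by decide +kernel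

theorem rel11 : U.rel 14 [5, 5, 5, 8, 7, 5] 0 14 = true := by decide +kernel

theorem rel12 : U.rel 14 [5, 3, 6, 4, 4, 6, 6, 8, 3, 3, 5, 4, 5, 7] 0 14 = true := by decide +kernel

theorem rel13 : U.rel 14 [5, 5, 3, 6, 4, 4, 7, 6, 5, 7, 7, 5, 5, 7, 3, 3, 5, 4] 0 14 = true := by decide +kernel

theorem rel14 : U.rel 14 [5, 8, 8, 8, 8, 6] 0 14 = true := by decide +kernel

theorem rel15 : U.rel 14 [3, 7, 4, 3, 6, 4, 4, 6, 8, 5, 3, 3, 5, 4] 0 14 = true := by decide +kernel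

theorem rel16 : U.rel 14 [3, 5, 5, 3, 7, 5, 3, 3, 5, 4, 8] 0 14 = true := by decide +kernel

theorem rel17 : U.rel 14 [3, 5, 7, 6, 4, 8, 3, 3, 5, 4, 6, 8, 8] 0 14 = true := by decide +kernel

theorem rel18 : U.rel 14 [3, 5, 4, 4, 1, 6, 1, 6, 4, 5, 3] 0 14 = true := by decide +kernel

theorem rel19 : U.rel 14 [1, 3, 1, 3, 1, 5, 4, 1, 4, 4, 1, 6, 3, 6, 1, 4, 1, 4, 1, 3, 5] 0 14 = true := by decide +kernel

theorem rel20 : U.rel 14 [1, 3, 5, 3, 3, 1, 4, 4, 6, 4, 1, 3, 5, 8, 4, 7, 3, 6, 4] 0 14 = true := by decide +kernel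

theorem gr23 : sub M22 (U.growI W21 [0, 1, 1, 0, 0, 1, 1, 0, 0, 1, 1, 0, 0, 1, 1, 0, 0, 1, 1, 0, 0, 1, 1] (Nat.shiftLeft 1 0)) = true := by decide +kernel

theorem sd25 : U.sends [] 0 0 = true := by decide +kernel

theorem gr27 : sub M26 (U.growI W21 [0, 1, 1, 0, 0, 1, 1, 0, 0, 1, 1, 0, 0, 1, 1, 0, 0, 1, 1, 0, 0, 1, 1] (Nat.shiftLeft 1 2)) = true := by decide +kernel

theorem sd29 : U.sends [5] 0 2 = true := by decide +kernel

theorem gr31 : sub M30 (U.growI W21 [0, 1, 1, 0, 0, 1, 1, 0, 0, 1, 1, 0, 0, 1, 1, 0, 0, 1, 1, 0, 0, 1, 1] (Nat.shiftLeft 1 3)) = true := by decide +kernel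

theorem sd33 : U.sends [1, 3] 0 3 = true := by decide +kernel

theorem gr35 : sub M34 (U.growI W21 [0, 1, 1, 0, 0, 1, 1, 0, 0, 1, 1, 0, 0, 1, 1, 0, 0, 1, 1, 0, 0, 1, 1] (Nat.shiftLeft 1 4)) = true := by decide +kernel

theorem sd37 : U.sends [1, 5] 0 4 = true := by decide +kernel

theorem gr39 : sub M38 (U.growI W21 [0, 1, 1, 0, 0, 1, 1, 0, 0, 1, 1, 0, 0, 1, 1, 0, 0, 1, 1, 0, 0, 1, 1] (Nat.shiftLeft 1 5)) = true := by decide +kernel

theorem sd41 : U.sends [5, 1] 0 5 = true := by decide +kernel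

theorem gr43 : sub M42 (U.growI W21 [0, 1, 1, 0, 0, 1, 1, 0, 0, 1, 1, 0, 0, 1, 1, 0, 0, 1, 1, 0, 0, 1, 1] (Nat.shiftLeft 1 6)) = true := by decide +kernel

theorem sd45 : U.sends [5, 3] 0 6 = true := by decide +kernel

theorem gr47 : sub M46 (U.growI W21 [0, 1, 1, 0, 0, 1, 1, 0, 0, 1, 1, 0, 0, 1, 1, 0, 0, 1, 1, 0, 0, 1, 1] (Nat.shiftLeft 1 8)) = true := by decide +kernel

theorem sd49 : U.sends [1, 3, 1] 0 8 = true := by decide +kernel

theorem gr51 : sub M50 (U.growI W21 [0, 1, 1, 0, 0, 1, 1, 0, 0, 1, 1, 0, 0, 1, 1, 0, 0, 1, 1, 0, 0, 1, 1] (Nat.shiftLeft 1 10)) = true := by decide +kernel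

theorem sd53 : U.sends [1, 3, 5] 0 10 = true := by decide +kernel

theorem gr55 : sub M54 (U.growI W21 [0, 1, 1, 0, 0, 1, 1, 0, 0, 1, 1, 0, 0] (Nat.shiftLeft 1 11)) = true := by decide +kernel

theorem sd57 : U.sends [1, 5, 1] 0 11 = true := by decide +kernel

theorem gr59 : sub M58 (U.growI W21 [0, 1, 1, 0, 0, 1, 1, 0, 0, 1, 1, 0, 0, 1, 1, 0, 0, 1, 1, 0, 0, 1, 1] (Nat.shiftLeft 1 12)) = true := by decide +kernel

theorem sd61 : U.sends [1, 5, 3] 0 12 = true := by decide +kernel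

theorem gr63 : sub M62 (U.growI W21 [0, 1, 1, 0, 0, 1, 1, 0, 0, 1, 1, 0, 0] (Nat.shiftLeft 1 13)) = true := by decide +kernel

theorem sd65 : U.sends [1, 5, 5] 0 13 = true := by decide +kernel

theorem gr67 : sub M66 (U.growI W21 [0, 1, 1, 0, 0, 1, 1, 0, 0, 1, 1, 0, 0, 1, 1, 0, 0, 1, 1, 0, 0, 1, 1] (Nat.shiftLeft 1 14)) = true := by decide +kernel

theorem sd69 : U.sends [5, 1, 3] 0 14 = true := by decide +kernel

theorem gr71 : sub M70 (U.growI W21 [0, 1, 1, 0, 0, 1, 1, 0, 0, 1, 1, 0, 0, 1, 1, 0, 0, 1, 1, 0, 0, 1, 1] (Nat.shiftLeft 1 55)) = true := by decide +kernel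

theorem sd73 : U.sends [5, 4] 0 55 = true := by decide +kernel

theorem gr75 : sub M74 (U.growI W21 [0, 1, 1, 0, 0, 1, 1, 0, 0, 1, 1, 0, 0, 1, 1, 0, 0, 1, 1, 0, 0, 1, 1] (Nat.shiftLeft 1 16)) = true := by decide +kernel

theorem sd77 : U.sends [5, 3, 1] 0 16 = true := by decide +kernel

theorem gr79 : sub M78 (U.growI W21 [0, 1, 1, 0, 0, 1, 1, 0, 0, 1, 1, 0, 0, 1, 1, 0, 0, 1, 1, 0, 0, 1, 1] (Nat.shiftLeft 1 19)) = true := by decide +kernel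

theorem sd81 : U.sends [5, 5, 1] 0 19 = true := by decide +kernel

theorem gr83 : sub M82 (U.growI W21 [0, 1, 1, 0, 0, 1, 1, 0, 0, 1, 1, 0, 0, 1, 1, 0, 0, 1, 1, 0, 0, 1, 1] (Nat.shiftLeft 1 20)) = true := by decide +kernel

theorem sd85 : U.sends [5, 4, 6] 0 20 = true := by decide +kernel

theorem gr87 : sub M86 (U.growI W21 [0, 1, 1, 0, 0, 1, 1, 0, 0, 1, 1, 0, 0, 1, 1, 0, 0, 1, 1, 0, 0, 1, 1] (Nat.shiftLeft 1 21)) = true := by decide +kernel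

theorem sd89 : U.sends [6] 0 21 = true := by decide +kernel

theorem gr91 : sub M90 (U.growI W21 [0, 1, 1, 0, 0, 1, 1, 0, 0, 1, 1, 0, 0, 1, 1, 0, 0, 1, 1, 0, 0, 1, 1] (Nat.shiftLeft 1 22)) = true := by decide +kernel

theorem sd93 : U.sends [1, 3, 1, 3] 0 22 = true := by decide +kernel

theorem gr95 : sub M94 (U.growI W21 [0, 1, 1, 0, 0, 1, 1, 0, 0, 1, 1, 0, 0, 1, 1, 0, 0, 1, 1, 0, 0, 1, 1] (Nat.shiftLeft 1 365)) = true := by decide +kernel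

theorem sd97 : U.sends [1, 3, 1, 4] 0 365 = true := by decide +kernel

theorem gr99 : sub M98 (U.growI W21 [0, 1, 1, 0, 0, 1, 1, 0, 0, 1, 1, 0, 0, 1, 1, 0, 0, 1, 1, 0, 0, 1, 1] (Nat.shiftLeft 1 67)) = true := by decide +kernel

theorem sd101 : U.sends [1, 4] 0 67 = true := by decide +kernel

theorem gr103 : sub M102 (U.growI W21 [0, 1, 1, 0, 0, 1, 1, 0, 0, 1, 1, 0, 0, 1, 1, 0, 0, 1, 1, 0, 0, 1, 1] (Nat.shiftLeft 1 28)) = true := by decide +kernel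

theorem sd105 : U.sends [1, 3, 5, 3] 0 28 = true := by decide +kernel

theorem gr107 : sub M106 (U.growI W21 [0, 1, 1, 0, 0, 1, 1, 0, 0, 1, 1, 0, 0, 1, 1, 0, 0, 1, 1, 0, 0, 1, 1] (Nat.shiftLeft 1 57)) = true := by decide +kernel

theorem sd109 : U.sends [6, 3] 0 57 = true := by decide +kernel

theorem gr111 : sub M110 (U.growI W21 [0, 1, 1, 0, 0, 1, 1, 0, 0, 1] (Nat.shiftLeft 1 30)) = true := by decide +kernel

theorem sd113 : U.sends [1, 5, 1, 3] 0 30 = true := by decide +kernel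

theorem gr115 : sub M114 (U.growI W21 [0, 1, 1, 0, 0, 1, 1, 0, 0, 1, 1, 0, 0, 1, 1, 0, 0, 1, 1, 0, 0, 1, 1] (Nat.shiftLeft 1 32)) = true := by decide +kernel

theorem sd117 : U.sends [1, 5, 3, 1] 0 32 = true := by decide +kernel

theorem gr119 : sub M118 (U.growI W21 [0, 1, 1, 0, 0, 1, 1, 0, 0, 1, 1, 0, 0, 1, 1, 0, 0, 1, 1, 0, 0, 1, 1] (Nat.shiftLeft 1 319)) = true := by decide +kernel

theorem sd121 : U.sends [1, 4, 1, 6] 0 319 = true := by decide +kernel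

theorem gr123 : sub M122 (U.growI W21 [0, 1, 1, 0, 0, 1, 1, 0, 0, 1, 1, 0, 0, 1, 1, 0, 0, 1, 1, 0, 0, 1, 1] (Nat.shiftLeft 1 35)) = true := by decide +kernel

theorem sd125 : U.sends [1, 5, 5, 3] 0 35 = true := by decide +kernel

theorem gr127 : sub M126 (U.growI W21 [0, 1, 1, 0, 0, 1, 1, 0, 0, 1, 1, 0, 0, 1, 1, 0, 0, 1, 1, 0, 0, 1, 1] (Nat.shiftLeft 1 4049)) = true := by decide +kernel

theorem sd129 : U.sends [1, 4, 1, 4] 0 4049 = true := by decide +kernel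

theorem gr131 : sub M130 (U.growI W21 [0, 1, 1, 0, 0, 1, 1, 0, 0, 1, 1, 0, 0, 1, 1, 0, 0, 1, 1, 0, 0, 1, 1] (Nat.shiftLeft 1 42)) = true := by decide +kernel

theorem sd133 : U.sends [5, 1, 5, 5] 0 42 = true := by decide +kernel

theorem gr135 : sub M134 (U.growI W21 [0, 1, 1, 0, 0, 1, 1, 0, 0, 1, 1, 0, 0, 1, 1, 0, 0, 1, 1, 0, 0, 1, 1] (Nat.shiftLeft 1 556)) = true := by decide +kernel

theorem sd137 : U.sends [1, 5, 5, 4] 0 556 = true := by decide +kernel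

theorem gr139 : sub M138 (U.growI W21 [0, 1, 1, 0, 0, 1, 1, 0, 0, 1, 1, 0, 0, 1, 1, 0, 0, 1, 1, 0, 0, 1, 1] (Nat.shiftLeft 1 49)) = true := by decide +kernel

theorem sd141 : U.sends [6, 4, 5] 0 49 = true := by decide +kernel

theorem gr143 : sub M142 (U.growI W21 [0, 1, 1, 0, 0, 1, 1, 0, 0, 1, 1, 0, 0, 1, 1, 0, 0, 1, 1, 0, 0, 1, 1] (Nat.shiftLeft 1 50)) = true := by decide +kernel

theorem sd145 : U.sends [5, 3, 5, 5] 0 50 = true := by decide +kernel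

theorem gr147 : sub M146 (U.growI W21 [0, 1, 1, 0, 0, 1, 1, 0, 0, 1, 1, 0, 0, 1, 1, 0, 0, 1, 1, 0, 0, 1, 1] (Nat.shiftLeft 1 51)) = true := by decide +kernel

theorem sd149 : U.sends [1, 4, 5, 5] 0 51 = true := by decide +kernel

theorem gr151 : sub M150 (U.growI W21 [0, 1, 1, 0, 0, 1, 1, 0, 0, 1, 1, 0, 0, 1, 1, 0, 0, 1, 1, 0, 0, 1, 1] (Nat.shiftLeft 1 53)) = true := by decide +kernel

theorem sd153 : U.sends [5, 4, 6, 1] 0 53 = true := by decide +kernel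

theorem gr155 : sub M154 (U.growI W21 [0, 1, 1, 0, 0, 1, 1, 0, 0, 1, 1, 0, 0, 1, 1, 0, 0, 1, 1, 0, 0, 1, 1] (Nat.shiftLeft 1 56)) = true := by decide +kernel

theorem sd157 : U.sends [6, 1] 0 56 = true := by decide +kernel

theorem gr159 : sub M158 (U.growI W21 [0, 1, 1, 0, 0, 1, 1, 0, 0, 1, 1, 0, 0, 1, 1, 0, 0, 1, 1, 0, 0, 1, 1] (Nat.shiftLeft 1 218)) = true := by decide +kernel

theorem sd161 : U.sends [1, 5, 4] 0 218 = true := by decide +kernel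

theorem gr163 : sub M162 (U.growI W21 [0, 1, 1, 0, 0, 1, 1, 0, 0, 1, 1, 0, 0, 1, 1, 0, 0, 1, 1, 0, 0, 1, 1] (Nat.shiftLeft 1 61)) = true := by decide +kernel

theorem sd165 : U.sends [1, 3, 1, 5, 1] 0 61 = true := by decide +kernel

theorem gr167 : sub M166 (U.growI W21 [0, 1, 1, 0, 0, 1, 1, 0, 0, 1, 1, 0, 0, 1, 1, 0, 0, 1, 1, 0, 0, 1, 1] (Nat.shiftLeft 1 1295)) = true := by decide +kernel

theorem sd169 : U.sends [1, 6, 3, 6] 0 1295 = true := by decide +kernel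

theorem gr171 : sub M170 (U.growI W21 [0, 1, 1, 0, 0, 1, 1, 0, 0, 1, 1, 0, 0, 1, 1, 0, 0, 1, 1, 0, 0, 1, 1] (Nat.shiftLeft 1 170)) = true := by decide +kernel

theorem sd173 : U.sends [1, 4, 5] 0 170 = true := by decide +kernel

theorem gr175 : sub M174 (U.growI W21 [0, 1, 1, 0, 0, 1, 1, 0, 0, 1, 1, 0, 0, 1, 1, 0, 0, 1, 1, 0, 0, 1, 1] (Nat.shiftLeft 1 754)) = true := by decide +kernel

theorem sd177 : U.sends [5, 5, 1, 4] 0 754 = true := by decide +kernel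

theorem gr179 : sub M178 (U.growI W21 [0, 1, 1, 0, 0, 1, 1, 0, 0, 1, 1, 0, 0, 1, 1, 0, 0, 1, 1, 0, 0, 1, 1] (Nat.shiftLeft 1 68)) = true := by decide +kernel

theorem sd181 : U.sends [1, 4, 4, 5] 0 68 = true := by decide +kernel

theorem gr183 : sub M182 (U.growI W21 [0, 1, 1, 0, 0, 1, 1, 0, 0, 1, 1, 0, 0, 1, 1, 0, 0, 1, 1, 0, 0, 1, 1] (Nat.shiftLeft 1 1870)) = true := by decide +kernel

theorem sd185 : U.sends [1, 3, 1, 6, 4] 0 1870 = true := by decide +kernel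

theorem gr187 : sub M186 (U.growI W21 [0, 1, 1, 0, 0, 1, 1, 0, 0, 1, 1, 0, 0, 1, 1, 0, 0, 1, 1, 0, 0, 1, 1] (Nat.shiftLeft 1 413)) = true := by decide +kernel

theorem sd189 : U.sends [1, 4, 1, 5] 0 413 = true := by decide +kernel

theorem gr191 : sub M190 (U.growI W21 [0, 1, 1, 0, 0, 1, 1, 0, 0, 1, 1, 0, 0, 1, 1, 0, 0, 1, 1, 0, 0, 1, 1] (Nat.shiftLeft 1 78)) = true := by decide +kernel

theorem sd193 : U.sends [1, 5, 1, 3, 1] 0 78 = true := by decide +kernel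

theorem gr195 : sub M194 (U.growI W21 [0, 1, 1, 0, 0, 1, 1, 0, 0, 1, 1, 0, 0, 1, 1, 0, 0, 1, 1, 0, 0, 1, 1] (Nat.shiftLeft 1 131)) = true := by decide +kernel

theorem sd197 : U.sends [1, 4, 6] 0 131 = true := by decide +kernel

theorem gr199 : sub M198 (U.growI W21 [0, 1, 1, 0, 0, 1, 1, 0, 0, 1, 1, 0, 0, 1, 1, 0, 0, 1, 1, 0, 0, 1, 1] (Nat.shiftLeft 1 81)) = true := by decide +kernel

theorem sd201 : U.sends [6, 1, 6] 0 81 = true := by decide +kernel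

theorem gr203 : sub M202 (U.growI W21 [0, 1, 1, 0, 0, 1, 1, 0, 0, 1, 1, 0, 0, 1, 1, 0, 0, 1, 1, 0, 0, 1, 1] (Nat.shiftLeft 1 140)) = true := by decide +kernel

theorem sd205 : U.sends [5, 4, 5] 0 140 = true := by decide +kernel

theorem gr207 : sub M206 (U.growI W21 [0, 1, 1, 0, 0, 1, 1, 0, 0, 1, 1, 0, 0, 1, 1, 0, 0, 1, 1, 0, 0, 1, 1] (Nat.shiftLeft 1 939)) = true := by decide +kernel

theorem sd209 : U.sends [5, 4, 1, 4] 0 939 = true := by decide +kernel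

theorem gr211 : sub M210 (U.growI W21 [0, 1, 1, 0, 0, 1, 1, 0, 0, 1, 1, 0, 0, 1, 1, 0, 0, 1, 1, 0, 0, 1, 1] (Nat.shiftLeft 1 455)) = true := by decide +kernel

theorem sd213 : U.sends [1, 4, 6, 3, 6] 0 455 = true := by decide +kernel

theorem gr215 : sub M214 (U.growI W21 [0, 1, 1, 0, 0, 1, 1, 0, 0, 1, 1, 0, 0, 1, 1, 0, 0, 1, 1, 0, 0, 1, 1] (Nat.shiftLeft 1 168)) = true := by decide +kernel

theorem sd217 : U.sends [1, 4, 4, 1, 5] 0 168 = true := by decide +kernel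

theorem gr219 : sub M218 (U.growI W21 [0, 1, 1, 0, 0, 1, 1, 0, 0, 1, 1, 0, 0, 1, 1, 0, 0, 1, 1, 0, 0, 1, 1] (Nat.shiftLeft 1 264)) = true := by decide +kernel

theorem sd221 : U.sends [5, 1, 6, 4] 0 264 = true := by decide +kernel

theorem gr223 : sub M222 (U.growI W21 [0, 1, 1, 0, 0, 1, 1, 0, 0, 1, 1, 0, 0, 1, 1, 0, 0, 1, 1, 0, 0, 1, 1] (Nat.shiftLeft 1 94)) = true := by decide +kernel

theorem sd225 : U.sends [1, 6, 1] 0 94 = true := by decide +kernel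

theorem gr227 : sub M226 (U.growI W21 [0, 1, 1, 0, 0, 1, 1, 0, 0, 1, 1, 0, 0, 1, 1, 0, 0, 1, 1, 0, 0, 1, 1] (Nat.shiftLeft 1 95)) = true := by decide +kernel

theorem sd229 : U.sends [1, 6, 3] 0 95 = true := by decide +kernel

theorem gr231 : sub M230 (U.growI W21 [0, 1, 1, 0, 0, 1, 1, 0, 0, 1, 1, 0, 0, 1, 1, 0, 0, 1, 1, 0, 0, 1, 1] (Nat.shiftLeft 1 817)) = true := by decide +kernel

theorem sd233 : U.sends [6, 3, 6] 0 817 = true := by decide +kernel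

theorem gr235 : sub M234 (U.growI W21 [0, 1, 1, 0, 0, 1, 1, 0, 0, 1, 1, 0, 0, 1, 1, 0, 0, 1, 1, 0, 0, 1, 1] (Nat.shiftLeft 1 1157)) = true := by decide +kernel

theorem sd237 : U.sends [6, 1, 5, 4] 0 1157 = true := by decide +kernel

theorem gr239 : sub M238 (U.growI W21 [0, 1, 1, 0, 0, 1, 1, 0, 0, 1, 1, 0, 0, 1, 1, 0, 0, 1, 1, 0, 0, 1, 1] (Nat.shiftLeft 1 141)) = true := by decide +kernel

theorem sd241 : U.sends [6, 1, 3] 0 141 = true := by decide +kernel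

theorem gr243 : sub M242 (U.growI W21 [0, 1, 1, 0, 0, 1, 1, 0, 0, 1, 1, 0, 0, 1, 1, 0, 0, 1, 1, 0, 0, 1, 1] (Nat.shiftLeft 1 298)) = true := by decide +kernel

theorem sd245 : U.sends [5, 3, 6, 3] 0 298 = true := by decide +kernel

theorem gr247 : sub M246 (U.growI W21 [0, 1, 1, 0, 0, 1, 1, 0, 0, 1, 1, 0, 0] (Nat.shiftLeft 1 107)) = true := by decide +kernel

theorem sd249 : U.sends [5, 1, 5, 4, 6] 0 107 = true := by decide +kernel

theorem gr251 : sub M250 (U.growI W21 [0, 1, 1, 0, 0, 1, 1, 0, 0, 1, 1, 0, 0] (Nat.shiftLeft 1 108)) = true := by decide +kernel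

theorem sd253 : U.sends [5, 1, 6] 0 108 = true := by decide +kernel

theorem gr255 : sub M254 (U.growI W21 [0, 1, 1, 0, 0, 1, 1, 0, 0, 1, 1, 0, 0, 1, 1, 0, 0, 1, 1, 0, 0, 1, 1] (Nat.shiftLeft 1 143)) = true := by decide +kernel

theorem sd257 : U.sends [6, 3, 1] 0 143 = true := by decide +kernel

theorem gr259 : sub M258 (U.growI W21 [0, 1, 1, 0, 0, 1, 1, 0, 0, 1, 1, 0, 0, 1, 1, 0, 0, 1, 1, 0, 0, 1, 1] (Nat.shiftLeft 1 240)) = true := by decide +kernel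

theorem sd261 : U.sends [1, 6, 3, 5] 0 240 = true := by decide +kernel

theorem gr263 : sub M262 (U.growI W21 [0, 1, 1, 0, 0, 1, 1, 0, 0, 1, 1, 0, 0, 1, 1, 0, 0, 1, 1, 0, 0, 1, 1] (Nat.shiftLeft 1 644)) = true := by decide +kernel

theorem sd265 : U.sends [5, 3, 1, 4] 0 644 = true := by decide +kernel

theorem gr267 : sub M266 (U.growI W21 [0, 1, 1, 0, 0, 1, 1, 0, 0, 1, 1, 0, 0, 1, 1, 0, 0, 1, 1, 0, 0, 1, 1] (Nat.shiftLeft 1 1736)) = true := by decide +kernel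

theorem sd269 : U.sends [6, 1, 4] 0 1736 = true := by decide +kernel

theorem gr271 : sub M270 (U.growI W21 [0, 1, 1, 0, 0, 1, 1, 0, 0, 1, 1, 0, 0, 1, 1, 0, 0, 1, 1, 0, 0, 1, 1] (Nat.shiftLeft 1 569)) = true := by decide +kernel

theorem sd273 : U.sends [1, 6, 3, 1, 3] 0 569 = true := by decide +kernel

theorem gr275 : sub M274 (U.growI W21 [0, 1, 1, 0, 0, 1, 1, 0, 0, 1, 1, 0, 0, 1, 1, 0, 0, 1, 1, 0, 0, 1, 1] (Nat.shiftLeft 1 236)) = true := by decide +kernel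

theorem sd277 : U.sends [1, 6, 1, 3] 0 236 = true := by decide +kernel

theorem gr279 : sub M278 (U.growI W21 [0, 1, 1, 0, 0, 1, 1, 0, 0, 1, 1, 0, 0, 1, 1, 0, 0, 1, 1, 0, 0, 1, 1] (Nat.shiftLeft 1 980)) = true := by decide +kernel

theorem sd281 : U.sends [1, 4, 5, 4] 0 980 = true := by decide +kernel

theorem gr283 : sub M282 (U.growI W21 [0, 1, 1, 0, 0, 1, 1, 0, 0, 1, 1, 0, 0, 1, 1, 0, 0, 1, 1, 0, 0, 1, 1] (Nat.shiftLeft 1 142)) = true := by decide +kernel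

theorem sd285 : U.sends [6, 1, 5] 0 142 = true := by decide +kernel

theorem gr287 : sub M286 (U.growI W21 [0, 1, 1, 0, 0, 1, 1, 0, 0, 1, 1, 0, 0, 1, 1, 0, 0, 1, 1, 0, 0, 1, 1] (Nat.shiftLeft 1 145)) = true := by decide +kernel

theorem sd289 : U.sends [6, 3, 5] 0 145 = true := by decide +kernel

theorem gr291 : sub M290 (U.growI W21 [0, 1, 1, 0, 0, 1, 1, 0, 0, 1, 1, 0, 0, 1, 1, 0, 0, 1, 1, 0, 0, 1, 1] (Nat.shiftLeft 1 634)) = true := by decide +kernel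

theorem sd293 : U.sends [5, 1, 6, 3, 5] 0 634 = true := by decide +kernel

theorem gr295 : sub M294 (U.growI W21 [0, 1, 1, 0, 0, 1, 1, 0, 0, 1, 1, 0, 0, 1, 1, 0, 0, 1, 1, 0, 0, 1, 1] (Nat.shiftLeft 1 1531)) = true := by decide +kernel

theorem sd297 : U.sends [6, 4, 1, 6] 0 1531 = true := by decide +kernel

theorem gr299 : sub M298 (U.growI W21 [0, 1, 1, 0, 0, 1, 1, 0, 0, 1, 1, 0, 0, 1, 1, 0, 0, 1, 1, 0, 0, 1, 1] (Nat.shiftLeft 1 4537)) = true := by decide +kernel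

theorem sd301 : U.sends [1, 3, 6, 1, 4] 0 4537 = true := by decide +kernel

theorem gr303 : sub M302 (U.growI W21 [0, 1, 1, 0, 0, 1, 1, 0, 0, 1, 1, 0, 0, 1, 1, 0, 0, 1, 1, 0, 0, 1, 1] (Nat.shiftLeft 1 172)) = true := by decide +kernel

theorem sd305 : U.sends [1, 4, 4, 5, 3] 0 172 = true := by decide +kernel

theorem gr307 : sub M306 (U.growI W21 [0, 1, 1, 0, 0, 1, 1, 0, 0, 1, 1, 0, 0, 1, 1, 0, 0, 1, 1, 0, 0, 1, 1] (Nat.shiftLeft 1 4618)) = true := by decide +kernel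

theorem sd309 : U.sends [6, 4, 1, 4] 0 4618 = true := by decide +kernel

theorem gr311 : sub M310 (U.growI W21 [0, 1, 1, 0, 0, 1, 1, 0, 0, 1, 1, 0, 0, 1, 1, 0, 0, 1, 1, 0, 0, 1, 1] (Nat.shiftLeft 1 189)) = true := by decide +kernel

theorem sd313 : U.sends [1, 6, 4, 6] 0 189 = true := by decide +kernel

theorem gr315 : sub M314 (U.growI W21 [0, 1, 1, 0, 0, 1, 1, 0, 0, 1, 1, 0, 0, 1, 1, 0, 0, 1, 1, 0, 0, 1, 1] (Nat.shiftLeft 1 463)) = true := by decide +kernel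

theorem sd317 : U.sends [1, 6, 4] 0 463 = true := by decide +kernel

theorem gr319 : sub M318 (U.growI W21 [0, 1, 1, 0, 0, 1, 1, 0, 0, 1, 1, 0, 0, 1, 1, 0, 0, 1, 1, 0, 0, 1, 1] (Nat.shiftLeft 1 736)) = true := by decide +kernel

theorem sd321 : U.sends [6, 4, 1, 5] 0 736 = true := by decide +kernel

theorem gr323 : sub M322 (U.growI W21 [0, 1, 1, 0, 0, 1, 1, 0, 0, 1, 1, 0, 0, 1, 1, 0, 0, 1, 1, 0, 0, 1, 1] (Nat.shiftLeft 1 196)) = true := by decide +kernel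

theorem sd325 : U.sends [1, 3, 6, 1] 0 196 = true := by decide +kernel

theorem gr327 : sub M326 (U.growI W21 [0, 1, 1, 0, 0, 1, 1, 0, 0, 1, 1, 0, 0, 1, 1, 0, 0, 1, 1, 0, 0, 1, 1] (Nat.shiftLeft 1 205)) = true := by decide +kernel

theorem sd329 : U.sends [6, 1, 6, 3] 0 205 = true := by decide +kernel

theorem gr331 : sub M330 (U.growI W21 [0, 1, 1, 0, 0, 1, 1, 0, 0, 1, 1, 0, 0, 1, 1, 0, 0, 1, 1, 0, 0, 1, 1] (Nat.shiftLeft 1 632)) = true := by decide +kernel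

theorem sd333 : U.sends [5, 1, 5, 4, 5] 0 632 = true := by decide +kernel

theorem gr335 : sub M334 (U.growI W21 [0, 1, 1, 0, 0, 1, 1, 0, 0, 1, 1, 0, 0, 1, 1, 0, 0, 1, 1, 0, 0, 1, 1] (Nat.shiftLeft 1 962)) = true := by decide +kernel

theorem sd337 : U.sends [1, 4, 5, 3, 1] 0 962 = true := by decide +kernel

theorem gr339 : sub M338 (U.growI W21 [0, 1, 1, 0, 0, 1, 1, 0, 0, 1, 1, 0, 0, 1, 1, 0, 0, 1, 1, 0, 0, 1, 1] (Nat.shiftLeft 1 1093)) = true := by decide +kernel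

theorem sd341 : U.sends [1, 3, 5, 5, 4] 0 1093 = true := by decide +kernel

theorem gr343 : sub M342 (U.growI W21 [0, 1, 1, 0, 0, 1, 1, 0, 0, 1, 1, 0, 0, 1, 1, 0, 0, 1, 1, 0, 0, 1, 1] (Nat.shiftLeft 1 301)) = true := by decide +kernel

theorem sd345 : U.sends [5, 3, 3, 6] 0 301 = true := by decide +kernel

theorem gr347 : sub M346 (U.growI W21 [0, 1, 1, 0, 0, 1, 1, 0, 0, 1, 1, 0, 0, 1, 1, 0, 0, 1, 1, 0, 0, 1, 1] (Nat.shiftLeft 1 3364)) = true := by decide +kernel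

theorem sd349 : U.sends [1, 4, 1, 5, 4, 6] 0 3364 = true := by decide +kernel

theorem gr351 : sub M350 (U.growI W21 [0, 1, 1, 0, 0, 1, 1, 0, 0, 1, 1, 0, 0, 1, 1, 0, 0, 1, 1, 0, 0, 1, 1] (Nat.shiftLeft 1 1996)) = true := by decide +kernel

theorem sd353 : U.sends [1, 6, 4, 1, 4] 0 1996 = true := by decide +kernel

theorem gr355 : sub M354 (U.growI W21 [0, 1, 1, 0, 0, 1, 1, 0, 0, 1, 1, 0, 0, 1, 1, 0, 0, 1, 1, 0, 0, 1, 1] (Nat.shiftLeft 1 1650)) = true := by decide +kernel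

theorem sd357 : U.sends [1, 4, 6, 1, 3, 1] 0 1650 = true := by decide +kernel

theorem gr359 : sub M358 (U.growI W21 [0, 1, 1, 0, 0, 1, 1, 0, 0, 1, 1, 0, 0, 1, 1, 0, 0, 1, 1, 0, 0, 1, 1] (Nat.shiftLeft 1 1750)) = true := by decide +kernel

theorem sd361 : U.sends [1, 6, 1, 4] 0 1750 = true := by decide +kernel

theorem gr363 : sub M362 (U.growI W21 [0, 1, 1, 0, 0, 1, 1, 0, 0, 1, 1, 0, 0, 1, 1, 0, 0, 1, 1, 0, 0, 1, 1] (Nat.shiftLeft 1 1535)) = true := by decide +kernel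

theorem sd365 : U.sends [5, 4, 4, 5, 4] 0 1535 = true := by decide +kernel

theorem gr367 : sub M366 (U.growI W21 [0, 1, 1, 0, 0, 1, 1, 0, 0, 1, 1, 0, 0, 1, 1, 0, 0, 1, 1, 0, 0, 1, 1] (Nat.shiftLeft 1 315)) = true := by decide +kernel

theorem sd369 : U.sends [6, 3, 1, 5] 0 315 = true := by decide +kernel

theorem gr371 : sub M370 (U.growI W21 [0, 1, 1, 0, 0, 1, 1, 0, 0, 1, 1, 0, 0, 1, 1, 0, 0, 1, 1, 0, 0, 1, 1] (Nat.shiftLeft 1 5331)) = true := by decide +kernel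

theorem sd373 : U.sends [1, 4, 1, 6, 4] 0 5331 = true := by decide +kernel

theorem gr375 : sub M374 (U.growI W21 [0, 1, 1, 0, 0, 1, 1, 0, 0, 1] (Nat.shiftLeft 1 1811)) = true := by decide +kernel

theorem sd377 : U.sends [1, 3, 1, 4, 1, 3] 0 1811 = true := by decide +kernel

theorem gr379 : sub M378 (U.growI W21 [0, 1, 1, 0, 0, 1, 1, 0, 0, 1, 1, 0, 0, 1, 1, 0, 0, 1, 1, 0, 0, 1, 1] (Nat.shiftLeft 1 3830)) = true := by decide +kernel

theorem sd381 : U.sends [1, 3, 1, 4, 6, 1] 0 3830 = true := by decide +kernel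

theorem gr383 : sub M382 (U.growI W21 [0, 1, 1, 0, 0, 1, 1, 0, 0, 1, 1, 0, 0, 1, 1, 0, 0, 1, 1, 0, 0, 1, 1] (Nat.shiftLeft 1 9274)) = true := by decide +kernel

theorem sd385 : U.sends [6, 4, 1, 3, 6, 1] 0 9274 = true := by decide +kernel

theorem gr387 : sub M386 (U.growI W21 [0, 1, 1, 0, 0, 1, 1, 0, 0, 1, 1, 0, 0, 1, 1, 0, 0, 1, 1, 0, 0, 1, 1] (Nat.shiftLeft 1 929)) = true := by decide +kernel

theorem sd389 : U.sends [1, 3, 3, 1, 4] 0 929 = true := by decide +kernel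

theorem gr391 : sub M390 (U.growI W21 [0, 1, 1, 0, 0, 1, 1, 0, 0] (Nat.shiftLeft 1 559)) = true := by decide +kernel

theorem sd393 : U.sends [5, 4, 4, 1, 4] 0 559 = true := by decide +kernel

theorem gr395 : sub M394 (U.growI W21 [0, 1, 1, 0, 0, 1, 1, 0, 0, 1, 1, 0, 0, 1, 1, 0, 0, 1, 1, 0, 0, 1, 1] (Nat.shiftLeft 1 414)) = true := by decide +kernel

theorem sd397 : U.sends [1, 4, 5, 1] 0 414 = true := by decide +kernel

theorem gr399 : sub M398 (U.growI W21 [0, 1, 1, 0, 0, 1, 1, 0, 0, 1, 1, 0, 0, 1, 1, 0, 0, 1, 1, 0, 0, 1, 1] (Nat.shiftLeft 1 415)) = true := by decide +kernel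

theorem sd401 : U.sends [1, 4, 5, 3] 0 415 = true := by decide +kernel

theorem gr403 : sub M402 (U.growI W21 [0, 1, 1, 0, 0, 1, 1, 0, 0, 1, 1, 0, 0, 1, 1, 0, 0, 1, 1, 0, 0, 1, 1] (Nat.shiftLeft 1 1344)) = true := by decide +kernel

theorem sd405 : U.sends [5, 1, 4, 6] 0 1344 = true := by decide +kernel

theorem gr407 : sub M406 (U.growI W21 [0, 1, 1, 0, 0, 1, 1, 0, 0, 1, 1, 0, 0, 1, 1, 0, 0, 1, 1, 0, 0, 1, 1] (Nat.shiftLeft 1 751)) = true := by decide +kernel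

theorem sd409 : U.sends [1, 4, 1, 6, 3] 0 751 = true := by decide +kernel

theorem gr411 : sub M410 (U.growI W21 [0, 1, 1, 0, 0, 1, 1, 0, 0, 1] (Nat.shiftLeft 1 2350)) = true := by decide +kernel

theorem sd413 : U.sends [1, 3, 6, 3, 6] 0 2350 = true := by decide +kernel

theorem gr415 : sub M414 (U.growI W21 [0, 1, 1, 0, 0, 1, 1, 0, 0, 1, 1, 0, 0] (Nat.shiftLeft 1 692)) = true := by decide +kernel

theorem sd417 : U.sends [5, 3, 3, 1, 6] 0 692 = true := by decide +kernel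

theorem gr419 : sub M418 (U.growI W21 [0, 1, 1, 0, 0, 1, 1, 0, 0, 1] (Nat.shiftLeft 1 2530)) = true := by decide +kernel

theorem sd421 : U.sends [1, 5, 5, 1, 5, 4] 0 2530 = true := by decide +kernel

theorem gr423 : sub M422 (U.growI W21 [0, 1, 1, 0, 0, 1, 1, 0, 0, 1, 1, 0, 0, 1, 1, 0, 0, 1, 1, 0, 0, 1, 1] (Nat.shiftLeft 1 633)) = true := by decide +kernel

theorem sd425 : U.sends [5, 1, 6, 3, 1] 0 633 = true := by decide +kernel

theorem gr427 : sub M426 (U.growI W21 [0, 1, 1, 0, 0, 1, 1, 0, 0, 1, 1, 0, 0, 1, 1, 0, 0, 1, 1, 0, 0, 1, 1] (Nat.shiftLeft 1 1891)) = true := by decide +kernel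

theorem sd429 : U.sends [6, 1, 4, 6, 4] 0 1891 = true := by decide +kernel

theorem gr431 : sub (ones 14976) (U.growI W430 [0, 1, 2, 2, 1, 0, 1, 2, 2, 1, 0, 1, 2, 2, 1, 0, 1, 2, 2, 1, 0, 1, 2, 2, 1] (Nat.shiftLeft 1 0)) = true := by decide +kernel

theorem cl433 : band (U.closedW W430 (ones 14976)) (sub (Nat.shiftLeft 1 0) (ones 14976)) = true := by decide +kernel

theorem sz434 : sizeOk 14 (ones 14976) 14976 = true := by decide +kernel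

theorem gr438 : sub M437 (U.growI W436 [0, 1, 1, 0, 0, 1, 1, 0, 0, 1, 1, 0, 0, 1, 1, 0, 0, 1, 1, 0, 0, 1] (Nat.shiftLeft 1 4)) = true := by decide +kernel

theorem cl440 : band (U.closedW W436 M437) (sub (Nat.shiftLeft 1 4) M437) = true := by decide +kernel

theorem sz441 : sizeOk 14 M437 2400 = true := by decide +kernel

theorem fx443 : U.closedW W436 (Nat.shiftLeft 1 0) = true := by decide +kernel

end Cfsg.Agent.Spor.RuX
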