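import Cfsg.Agent.Spor.Prim
import Cfsg.Agent.Spor.RuX.C0
import Cfsg.Agent.Spor.R3E
import Cfsg.Agent.Spor.Rub.D0

set_option autoImplicit false
set_option maxRecDepth 100000000
set_option Elab.async false

namespace Cfsg.Agent.Spor.RuX

theorem hU : U.Ok 14 := U.ok_of 14 (show AllP (fun n => Net.okb 14 n = true) [un0, un1, un2, un3] from AllP.cons uok0 (AllP.cons uok1 (AllP.cons uok2 (AllP.cons uok3 (AllP.nil)))))

theorem pressq : ∀ j < 1, j < 3 → U.fP [1, 3, 5] j * U.fP [1, 3, 5] j = 1 :=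
  Tab.sq (show AllP (fun z => evA U.τ [z, z] = 1) [1] from AllP.cons (hU.one rel1) (AllP.nil)) 3 rfl
theorem presiv : IvOk (2 * 1) (atm 3 (U.fP [1, 3, 5])) := ivOk_atm pressq
theorem prespz1 : PZ U (atm 3 (U.fP [1, 3, 5])) presEX 1 := PZ.of_atom (y := 2 * 0) (by decide +kernel) (atm_two_mul _ (by decide))
theorem prespz3 : PZ U (atm 3 (U.fP [1, 3, 5])) presEX 3 := PZ.of_atom (y := 2 * 1) (by decide +kernel) (atm_two_mul _ (by decide))
theorem prespz4 : PZ U (atm 3 (U.fP [1, 3, 5])) presEX 4 := PZ.of_inv presiv prespz3 (by decide +kernel)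
theorem prespz5 : PZ U (atm 3 (U.fP [1, 3, 5])) presEX 5 := PZ.of_atom (y := 2 * 2) (by decide +kernel) (atm_two_mul _ (by decide))
theorem prespz6 : PZ U (atm 3 (U.fP [1, 3, 5])) presEX 6 := PZ.of_inv presiv prespz5 (by decide +kernel)
theorem prespz7 : PZ U (atm 3 (U.fP [1, 3, 5])) presEX 7 := PZ.of_def presiv (d := [1, 3, 3, 5, 4, 1]) (AllP.cons prespz1 (AllP.cons prespz3 (AllP.cons prespz3 (AllP.cons prespz5 (AllP.cons prespz4 (AllP.cons prespz1 (AllP.nil))))))) (hU.one rel2) (by decide +kernel)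
theorem prespz8 : PZ U (atm 3 (U.fP [1, 3, 5])) presEX 8 := PZ.of_inv presiv prespz7 (by decide +kernel)
theorem presPZ : AllP (PZ U (atm 3 (U.fP [1, 3, 5])) presEX) [1, 3, 4, 5, 6, 7, 8] :=
  AllP.cons prespz1 (AllP.cons prespz3 (AllP.cons prespz4 (AllP.cons prespz5 (AllP.cons prespz6 (AllP.cons prespz7 (AllP.cons prespz8 (AllP.nil)))))))
theorem pres : Pres 3 1 Rub.RL (U.fP [1, 3, 5]) :=
  ⟨pressq, relAll_sound presiv (W := [[8, 6, 8, 6, 8, 6, 8, 6], [3, 6, 4, 4, 6, 8, 3, 3, 5, 4, 8, 6, 7, 5, 5, 7], [6, 8, 6, 8, 8, 6, 7, 5, 7, 5, 5, 7], [6, 8, 3, 6, 4, 4, 6, 8, 6, 8, 3, 3, 5, 4, 6, 8], [3, 6, 4, 4, 3, 6, 4, 4, 6, 8, 5, 7, 6, 8, 8, 6], [3, 6, 4, 4, 3, 6, 4, 4, 3, 6, 4, 4, 3, 6, 4, 4], [3, 6, 4, 4, 3, 6, 4, 4, 8, 6, 3, 6, 4, 4, 8, 6, 8, 6, 3, 6, 4, 4, 8, 6], [3, 6, 4, 4, 8, 6, 3, 6, 4, 4, 8, 6, 3, 6, 4, 4, 8, 6, 3, 6, 4, 4, 8, 6], [5, 5, 5, 8, 7, 5], [5, 3, 6, 4, 4, 6, 6, 8, 3, 3, 5, 4, 5, 7], [5, 5, 3, 6, 4, 4, 7, 6, 5, 7, 7, 5,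 5, 7, 3, 3, 5, 4], [5, 8, 8, 8, 8, 6], [3, 7, 4, 3, 6, 4, 4, 6, 8, 5, 3, 3, 5, 4], [3, 5, 5, 3, 7, 5, 3, 3, 5, 4, 8], [3, 5, 7, 6, 4, 8, 3, 3, 5, 4, 6, 8, 8], [3, 5, 4, 4, 1, 6, 1, 6, 4, 5, 3], [1, 3, 1, 3, 1, 5, 4, 1, 4, 4, 1, 6, 3, 6, 1, 4, 1, 4, 1, 3, 5], [1, 3, 5, 3, 3, 1, 4, 4, 6, 4, 1, 3, 5, 8, 4, 7, 3, 6, 4]]) (rules := [⟨[8, 6, 8, 6, 8, 6, 8, 6], [], 0, true⟩, ⟨[3, 6, 4, 4, 6, 8, 3, 3, 5, 4, 8, 6, 7, 5, 5, 7], [], 1, true⟩, ⟨[6, 8, 6, 8, 8, 6, 7, 5, 7, 5, 5, 7], [], 2, true⟩, ⟨[6, 8, 3, 6, 4, 4, 6, 8, 6, 8, 3, 3, 5, 4, 6, 8], [], 3, true⟩, ⟨[3, 6, 4, 4, 3, 6, 4, 4, 6, 8, 5, 7, 6, 8, 8, 6], [], 4, true⟩, ⟨[3, 6, 4, 4, 3, 6, 4, 4, 3, 6, 4, 4, 3, 6, 4, 4], [], 5, true⟩, ⟨[3, 6, 4, 4, 3, 6, 4, 4, 8, 6, 3, 6, 4, 4, 8, 6, 8, 6, 3, 6, 4, 4, 8, 6], [], 6, true⟩, ⟨[3, 6, 4, 4, 8, 6, 3, 6, 4, 4, 8, 6, 3, 6, 4, 4, 8, 6, 3, 6, 4, 4, 8, 6], [], 7, true⟩, ⟨[5, 5, 5, 8, 7, 5], [], 8, true⟩, ⟨[5, 3, 6, 4, 4, 6, 6, 8, 3, 3, 5, 4, 5, 7], [],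 9, true⟩, ⟨[5, 5, 3, 6, 4, 4, 7, 6, 5, 7, 7, 5, 5, 7, 3, 3, 5, 4], [], 10, true⟩, ⟨[5, 8, 8, 8, 8, 6], [], 11, true⟩, ⟨[3, 7, 4, 3, 6, 4, 4, 6, 8, 5, 3, 3, 5, 4], [], 12, true⟩, ⟨[3, 5, 5, 3, 7, 5, 3, 3, 5, 4, 8], [], 13, true⟩, ⟨[3, 5, 7, 6, 4, 8, 3, 3, 5, 4, 6, 8, 8], [], 14, true⟩, ⟨[3, 5, 4, 4, 1, 6, 1, 6, 4, 5, 3], [], 15, true⟩, ⟨[1, 3, 1, 3, 1, 5, 4, 1, 4, 4, 1, 6, 3, 6, 1, 4, 1, 4, 1, 3, 5], [], 16, true⟩, ⟨[1, 3, 5, 3, 3, 1, 4, 4, 6, 4, 1, 3, 5, 8, 4, 7, 3, 6, 4], [], 17, true⟩]) presPZ (AllP.cons (hU.one rel3) (AllP.cons (hU.one rel4) (AllP.cons (hU.one rel5) (AllP.cons (hU.one rel6) (AllP.cons (hU.one rel7) (AllP.cons (hU.one rel8) (AllP.cons (hU.one rel9) (AllP.cons (hU.one rel10) (AllP.cons (hU.one rel11) (AllP.cons (hU.one rel12) (AllP.cons (hU.one rel13) (AllP.cons (hU.one rel14) (AllP.cons (hU.one rel15) (AllP.cons (hU.one rel16) (AllP.cons (hU.one rel17) (AllP.cons (hU.one rel18) (AllP.cons (hU.one rel19) (AllP.cons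 (hU.one rel20) (AllP.nil))))))))))))))))))) (by decide +kernel)⟩
theorem reach24 : Reach (U.lsub W21) 0 M22 := (Reach.grow hU (Reach.base _ 0) gr23)
theorem reach28 : Reach (U.lsub W21) 2 M26 := (Reach.grow hU (Reach.base _ 2) gr27)
theorem reach32 : Reach (U.lsub W21) 3 M30 := (Reach.grow hU (Reach.base _ 3) gr31)
theorem reach36 : Reach (U.lsub W21) 4 M34 := (Reach.grow hU (Reach.base _ 4) gr35)
theorem reach40 : Reach (U.lsub W21) 5 M38 := (Reach.grow hU (Reach.base _ 5) gr39)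
theorem reach44 : Reach (U.lsub W21) 6 M42 := (Reach.grow hU (Reach.base _ 6) gr43)
theorem reach48 : Reach (U.lsub W21) 8 M46 := (Reach.grow hU (Reach.base _ 8) gr47)
theorem reach52 : Reach (U.lsub W21) 10 M50 := (Reach.grow hU (Reach.base _ 10) gr51)
theorem reach56 : Reach (U.lsub W21) 11 M54 := (Reach.grow hU (Reach.base _ 11) gr55)
theorem reach60 : Reach (U.lsub W21) 12 M58 := (Reach.grow hU (Reach.base _ 12) gr59)
theorem reach64 : Reach (U.lsub W21) 13 M62 := (Reach.grow hU (Reach.base _ 13) gr63)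
theorem reach68 : Reach (U.lsub W21) 14 M66 := (Reach.grow hU (Reach.base _ 14) gr67)
theorem reach72 : Reach (U.lsub W21) 55 M70 := (Reach.grow hU (Reach.base _ 55) gr71)
theorem reach76 : Reach (U.lsub W21) 16 M74 := (Reach.grow hU (Reach.base _ 16) gr75)
theorem reach80 : Reach (U.lsub W21) 19 M78 := (Reach.grow hU (Reach.base _ 19) gr79)
theorem reach84 : Reach (U.lsub W21) 20 M82 := (Reach.grow hU (Reach.base _ 20) gr83)
theorem reach88 : Reach (U.lsub W21) 21 M86 := (Reach.grow hU (Reach.base _ 21) gr87)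
theorem reach92 : Reach (U.lsub W21) 22 M90 := (Reach.grow hU (Reach.base _ 22) gr91)
theorem reach96 : Reach (U.lsub W21) 365 M94 := (Reach.grow hU (Reach.base _ 365) gr95)
theorem reach100 : Reach (U.lsub W21) 67 M98 := (Reach.grow hU (Reach.base _ 67) gr99)
theorem reach104 : Reach (U.lsub W21) 28 M102 := (Reach.grow hU (Reach.base _ 28) gr103)
theorem reach108 : Reach (U.lsub W21) 57 M106 := (Reach.grow hU (Reach.base _ 57) gr107)
theorem reach112 : Reach (U.lsub W21) 30 M110 := (Reach.grow hU (Reach.base _ 30) gr111)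
theorem reach116 : Reach (U.lsub W21) 32 M114 := (Reach.grow hU (Reach.base _ 32) gr115)
theorem reach120 : Reach (U.lsub W21) 319 M118 := (Reach.grow hU (Reach.base _ 319) gr119)
theorem reach124 : Reach (U.lsub W21) 35 M122 := (Reach.grow hU (Reach.base _ 35) gr123)
theorem reach128 : Reach (U.lsub W21) 4049 M126 := (Reach.grow hU (Reach.base _ 4049) gr127)
theorem reach132 : Reach (U.lsub W21) 42 M130 := (Reach.grow hU (Reach.base _ 42) gr131)
theorem reach136 : Reach (U.lsub W21) 556 M134 := (Reach.grow hU (Reach.base _ 556) gr135)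
theorem reach140 : Reach (U.lsub W21) 49 M138 := (Reach.grow hU (Reach.base _ 49) gr139)
theorem reach144 : Reach (U.lsub W21) 50 M142 := (Reach.grow hU (Reach.base _ 50) gr143)
theorem reach148 : Reach (U.lsub W21) 51 M146 := (Reach.grow hU (Reach.base _ 51) gr147)
theorem reach152 : Reach (U.lsub W21) 53 M150 := (Reach.grow hU (Reach.base _ 53) gr151)
theorem reach156 : Reach (U.lsub W21) 56 M154 := (Reach.grow hU (Reach.base _ 56) gr155)
theorem reach160 : Reach (U.lsub W21) 218 M158 := (Reach.grow hU (Reach.base _ 218) gr159)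
theorem reach164 : Reach (U.lsub W21) 61 M162 := (Reach.grow hU (Reach.base _ 61) gr163)
theorem reach168 : Reach (U.lsub W21) 1295 M166 := (Reach.grow hU (Reach.base _ 1295) gr167)
theorem reach172 : Reach (U.lsub W21) 170 M170 := (Reach.grow hU (Reach.base _ 170) gr171)
theorem reach176 : Reach (U.lsub W21) 754 M174 := (Reach.grow hU (Reach.base _ 754) gr175)
theorem reach180 : Reach (U.lsub W21) 68 M178 := (Reach.grow hU (Reach.base _ 68) gr179)
theorem reach184 : Reach (U.lsub W21) 1870 M182 := (Reach.grow hU (Reach.base _ 1870) gr183)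
theorem reach188 : Reach (U.lsub W21) 413 M186 := (Reach.grow hU (Reach.base _ 413) gr187)
theorem reach192 : Reach (U.lsub W21) 78 M190 := (Reach.grow hU (Reach.base _ 78) gr191)
theorem reach196 : Reach (U.lsub W21) 131 M194 := (Reach.grow hU (Reach.base _ 131) gr195)
theorem reach200 : Reach (U.lsub W21) 81 M198 := (Reach.grow hU (Reach.base _ 81) gr199)
theorem reach204 : Reach (U.lsub W21) 140 M202 := (Reach.grow hU (Reach.base _ 140) gr203)
theorem reach208 : Reach (U.lsub W21) 939 M206 := (Reach.grow hU (Reach.base _ 939) gr207)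
theorem reach212 : Reach (U.lsub W21) 455 M210 := (Reach.grow hU (Reach.base _ 455) gr211)
theorem reach216 : Reach (U.lsub W21) 168 M214 := (Reach.grow hU (Reach.base _ 168) gr215)
theorem reach220 : Reach (U.lsub W21) 264 M218 := (Reach.grow hU (Reach.base _ 264) gr219)
theorem reach224 : Reach (U.lsub W21) 94 M222 := (Reach.grow hU (Reach.base _ 94) gr223)
theorem reach228 : Reach (U.lsub W21) 95 M226 := (Reach.grow hU (Reach.base _ 95) gr227)
theorem reach232 : Reach (U.lsub W21) 817 M230 := (Reach.grow hU (Reach.base _ 817) gr231)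
theorem reach236 : Reach (U.lsub W21) 1157 M234 := (Reach.grow hU (Reach.base _ 1157) gr235)
theorem reach240 : Reach (U.lsub W21) 141 M238 := (Reach.grow hU (Reach.base _ 141) gr239)
theorem reach244 : Reach (U.lsub W21) 298 M242 := (Reach.grow hU (Reach.base _ 298) gr243)
theorem reach248 : Reach (U.lsub W21) 107 M246 := (Reach.grow hU (Reach.base _ 107) gr247)
theorem reach252 : Reach (U.lsub W21) 108 M250 := (Reach.grow hU (Reach.base _ 108) gr251)
theorem reach256 : Reach (U.lsub W21) 143 M254 := (Reach.grow hU (Reach.base _ 143) gr255)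
theorem reach260 : Reach (U.lsub W21) 240 M258 := (Reach.grow hU (Reach.base _ 240) gr259)
theorem reach264 : Reach (U.lsub W21) 644 M262 := (Reach.grow hU (Reach.base _ 644) gr263)
theorem reach268 : Reach (U.lsub W21) 1736 M266 := (Reach.grow hU (Reach.base _ 1736) gr267)
theorem reach272 : Reach (U.lsub W21) 569 M270 := (Reach.grow hU (Reach.base _ 569) gr271)
theorem reach276 : Reach (U.lsub W21) 236 M274 := (Reach.grow hU (Reach.base _ 236) gr275)
theorem reach280 : Reach (U.lsub W21) 980 M278 := (Reach.grow hU (Reach.base _ 980) gr279)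
theorem reach284 : Reach (U.lsub W21) 142 M282 := (Reach.grow hU (Reach.base _ 142) gr283)
theorem reach288 : Reach (U.lsub W21) 145 M286 := (Reach.grow hU (Reach.base _ 145) gr287)
theorem reach292 : Reach (U.lsub W21) 634 M290 := (Reach.grow hU (Reach.base _ 634) gr291)
theorem reach296 : Reach (U.lsub W21) 1531 M294 := (Reach.grow hU (Reach.base _ 1531) gr295)
theorem reach300 : Reach (U.lsub W21) 4537 M298 := (Reach.grow hU (Reach.base _ 4537) gr299)
theorem reach304 : Reach (U.lsub W21) 172 M302 := (Reach.grow hU (Reach.base _ 172) gr303)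
theorem reach308 : Reach (U.lsub W21) 4618 M306 := (Reach.grow hU (Reach.base _ 4618) gr307)
theorem reach312 : Reach (U.lsub W21) 189 M310 := (Reach.grow hU (Reach.base _ 189) gr311)
theorem reach316 : Reach (U.lsub W21) 463 M314 := (Reach.grow hU (Reach.base _ 463) gr315)
theorem reach320 : Reach (U.lsub W21) 736 M318 := (Reach.grow hU (Reach.base _ 736) gr319)
theorem reach324 : Reach (U.lsub W21) 196 M322 := (Reach.grow hU (Reach.base _ 196) gr323)
theorem reach328 : Reach (U.lsub W21) 205 M326 := (Reach.grow hU (Reach.base _ 205) gr327)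
theorem reach332 : Reach (U.lsub W21) 632 M330 := (Reach.grow hU (Reach.base _ 632) gr331)
theorem reach336 : Reach (U.lsub W21) 962 M334 := (Reach.grow hU (Reach.base _ 962) gr335)
theorem reach340 : Reach (U.lsub W21) 1093 M338 := (Reach.grow hU (Reach.base _ 1093) gr339)
theorem reach344 : Reach (U.lsub W21) 301 M342 := (Reach.grow hU (Reach.base _ 301) gr343)
theorem reach348 : Reach (U.lsub W21) 3364 M346 := (Reach.grow hU (Reach.base _ 3364) gr347)
theorem reach352 : Reach (U.lsub W21) 1996 M350 := (Reach.grow hU (Reach.base _ 1996) gr351)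
theorem reach356 : Reach (U.lsub W21) 1650 M354 := (Reach.grow hU (Reach.base _ 1650) gr355)
theorem reach360 : Reach (U.lsub W21) 1750 M358 := (Reach.grow hU (Reach.base _ 1750) gr359)
theorem reach364 : Reach (U.lsub W21) 1535 M362 := (Reach.grow hU (Reach.base _ 1535) gr363)
theorem reach368 : Reach (U.lsub W21) 315 M366 := (Reach.grow hU (Reach.base _ 315) gr367)
theorem reach372 : Reach (U.lsub W21) 5331 M370 := (Reach.grow hU (Reach.base _ 5331) gr371)
theorem reach376 : Reach (U.lsub W21) 1811 M374 := (Reach.grow hU (Reach.base _ 1811) gr375)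
theorem reach380 : Reach (U.lsub W21) 3830 M378 := (Reach.grow hU (Reach.base _ 3830) gr379)
theorem reach384 : Reach (U.lsub W21) 9274 M382 := (Reach.grow hU (Reach.base _ 9274) gr383)
theorem reach388 : Reach (U.lsub W21) 929 M386 := (Reach.grow hU (Reach.base _ 929) gr387)
theorem reach392 : Reach (U.lsub W21) 559 M390 := (Reach.grow hU (Reach.base _ 559) gr391)
theorem reach396 : Reach (U.lsub W21) 414 M394 := (Reach.grow hU (Reach.base _ 414) gr395)
theorem reach400 : Reach (U.lsub W21) 415 M398 := (Reach.grow hU (Reach.base _ 415) gr399)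
theorem reach404 : Reach (U.lsub W21) 1344 M402 := (Reach.grow hU (Reach.base _ 1344) gr403)
theorem reach408 : Reach (U.lsub W21) 751 M406 := (Reach.grow hU (Reach.base _ 751) gr407)
theorem reach412 : Reach (U.lsub W21) 2350 M410 := (Reach.grow hU (Reach.base _ 2350) gr411)
theorem reach416 : Reach (U.lsub W21) 692 M414 := (Reach.grow hU (Reach.base _ 692) gr415)
theorem reach420 : Reach (U.lsub W21) 2530 M418 := (Reach.grow hU (Reach.base _ 2530) gr419)
theorem reach424 : Reach (U.lsub W21) 633 M422 := (Reach.grow hU (Reach.base _ 633) gr423)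
theorem reach428 : Reach (U.lsub W21) 1891 M426 := (Reach.grow hU (Reach.base _ 1891) gr427)
noncomputable def X : List SubO := [([], 0, M22), ([4], 2, M26), ([2, 0], 3, M30), ([4, 0], 4, M34), ([0, 4], 5, M38), ([2, 4], 6, M42), ([0, 2, 0], 8, M46), ([4, 2, 0], 10, M50), ([0, 4, 0], 11, M54), ([2, 4, 0], 12, M58), ([4, 4, 0], 13, M62), ([2, 0, 4], 14, M66), ([3, 4], 55, M70), ([0, 2, 4], 16, M74), ([0, 4, 4], 19, M78), ([5, 3, 4], 20, M82), ([5], 21, M86), ([2, 0, 2, 0], 22, M90), ([3, 0, 2, 0], 365, M94), ([3, 0], 67, M98), ([2, 4, 2, 0], 28, M102), ([2, 5], 57, M106), ([2, 0, 4, 0], 30, M110), ([0, 2, 4, 0], 32, M114), ([5, 0, 3, 0], 319, M118), ([2, 4, 4, 0], 35, M122), ([3, 0, 3, 0], 4049, M126), ([4, 4, 0, 4], 42, M130), ([3, 4, 4, 0], 556, M134), ([4, 3, 5], 49, M138), ([4, 4, 2, 4], 50, M142), ([4, 4, 3, 0], 51, M146), ([0, 5, 3, 4], 53, M150), ([0, 5], 56, M154), ([3, 4, 0], 218, M158), ([0, 4, 0, 2, 0], 61, M162), ([5, 2,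 5, 0], 1295, M166), ([4, 3, 0], 170, M170), ([3, 0, 4, 4], 754, M174), ([4, 3, 3, 0], 68, M178), ([3, 5, 0, 2, 0], 1870, M182), ([4, 0, 3, 0], 413, M186), ([0, 2, 0, 4, 0], 78, M190), ([5, 3, 0], 131, M194), ([5, 0, 5], 81, M198), ([4, 3, 4], 140, M202), ([3, 0, 3, 4], 939, M206), ([5, 2, 5, 3, 0], 455, M210), ([4, 0, 3, 3, 0], 168, M214), ([3, 5, 0, 4], 264, M218), ([0, 5, 0], 94, M222), ([2, 5, 0], 95, M226), ([5, 2, 5], 817, M230), ([3, 4, 0, 5], 1157, M234), ([2, 0, 5], 141, M238), ([2, 5, 2, 4], 298, M242), ([5, 3, 4, 0, 4], 107, M246), ([5, 0, 4], 108, M250), ([0, 2, 5], 143, M254), ([4, 2, 5, 0], 240, M258), ([3, 0, 2, 4], 644, M262), ([3, 0, 5], 1736, M266), ([2, 0, 2, 5, 0], 569, M270), ([2, 0, 5, 0], 236, M274), ([3, 4, 3, 0], 980, M278), ([4, 0, 5], 142, M282), ([4, 2, 5], 145, M286), ([4, 2, 5, 0, 4], 634, M290), ([5, 0, 3, 5], 1531, M294), ([3, 0, 5, 2, 0], 4537, M298), ([2, 4, 3, 3, 0], 172, M302), ([3, 0, 3, 5], 4618,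 M306), ([5, 3, 5, 0], 189, M310), ([3, 5, 0], 463, M314), ([4, 0, 3, 5], 736, M318), ([0, 5, 2, 0], 196, M322), ([2, 5, 0, 5], 205, M326), ([4, 3, 4, 0, 4], 632, M330), ([0, 2, 4, 3, 0], 962, M334), ([3, 4, 4, 2, 0], 1093, M338), ([5, 2, 2, 4], 301, M342), ([5, 3, 4, 0, 3, 0], 3364, M346), ([3, 0, 3, 5, 0], 1996, M350), ([0, 2, 0, 5, 3, 0], 1650, M354), ([3, 0, 5, 0], 1750, M358), ([3, 4, 3, 3, 4], 1535, M362), ([4, 0, 2, 5], 315, M366), ([3, 5, 0, 3, 0], 5331, M370), ([2, 0, 3, 0, 2, 0], 1811, M374), ([0, 5, 3, 0, 2, 0], 3830, M378), ([0, 5, 2, 0, 3, 5], 9274, M382), ([3, 0, 2, 2, 0], 929, M386), ([3, 0, 3, 3, 4], 559, M390), ([0, 4, 3, 0], 414, M394), ([2, 4, 3, 0], 415, M398), ([5, 3, 0, 4], 1344, M402), ([2, 5, 0, 3, 0], 751, M406), ([5, 2, 5, 2, 0], 2350, M410), ([5, 0, 2, 2, 4], 692, M414), ([3, 4, 0, 4, 4, 0], 2530, M418), ([0, 2, 5, 0, 4], 633, M422), ([3, 5, 3, 0, 5], 1891, M426)]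
theorem hX : AllP (fun x : SubO => lall (fun y => Nat.blt y 6) x.1 = true ∧ evA U.τ (toL x.1) 0 = x.2.1 ∧ Reach (U.lsub W21) x.2.1 x.2.2 ∧ x.1 ∈ WL) X :=
  show AllP _ [([], 0, M22), ([4], 2, M26), ([2, 0], 3, M30), ([4, 0], 4, M34), ([0, 4], 5, M38), ([2, 4], 6, M42), ([0, 2, 0], 8, M46), ([4, 2, 0], 10, M50), ([0, 4, 0], 11, M54), ([2, 4, 0], 12, M58), ([4, 4, 0], 13, M62), ([2, 0, 4], 14, M66), ([3, 4], 55, M70), ([0, 2, 4], 16, M74), ([0, 4, 4], 19, M78), ([5, 3, 4], 20, M82), ([5], 21, M86), ([2, 0, 2, 0], 22, M90), ([3, 0, 2, 0], 365, M94), ([3, 0], 67, M98), ([2, 4, 2, 0], 28, M102), ([2, 5], 57, M106), ([2, 0, 4, 0], 30, M110), ([0, 2, 4, 0], 32, M114), ([5, 0, 3, 0], 319, M118), ([2, 4, 4, 0], 35, M122), ([3, 0, 3, 0], 4049, M126), ([4, 4, 0, 4], 42, M130), ([3, 4, 4, 0], 556, M134), ([4, 3, 5], 49, M138), ([4, 4, 2, 4], 50, M142), ([4, 4, 3, 0], 51, M146), ([0, 5, 3, 4], 53, M150), ([0, 5], 56, M154), ([3, 4, 0], 218, M158),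 ([0, 4, 0, 2, 0], 61, M162), ([5, 2, 5, 0], 1295, M166), ([4, 3, 0], 170, M170), ([3, 0, 4, 4], 754, M174), ([4, 3, 3, 0], 68, M178), ([3, 5, 0, 2, 0], 1870, M182), ([4, 0, 3, 0], 413, M186), ([0, 2, 0, 4, 0], 78, M190), ([5, 3, 0], 131, M194), ([5, 0, 5], 81, M198), ([4, 3, 4], 140, M202), ([3, 0, 3, 4], 939, M206), ([5, 2, 5, 3, 0], 455, M210), ([4, 0, 3, 3, 0], 168, M214), ([3, 5, 0, 4], 264, M218), ([0, 5, 0], 94, M222), ([2, 5, 0], 95, M226), ([5, 2, 5], 817, M230), ([3, 4, 0, 5], 1157, M234), ([2, 0, 5], 141, M238), ([2, 5, 2, 4], 298, M242), ([5, 3, 4, 0, 4], 107, M246), ([5, 0, 4], 108, M250), ([0, 2, 5], 143, M254), ([4, 2, 5, 0], 240, M258), ([3, 0, 2, 4], 644, M262), ([3, 0, 5], 1736, M266), ([2, 0, 2, 5, 0], 569, M270), ([2, 0, 5, 0], 236, M274), ([3, 4, 3, 0], 980, M278), ([4, 0, 5], 142, M282), ([4, 2, 5], 145, M286), ([4, 2, 5, 0, 4], 634, M290), ([5, 0, 3, 5], 1531, M294), ([3, 0, 5, 2, 0], 4537, M298), ([2, 4, 3,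 3, 0], 172, M302), ([3, 0, 3, 5], 4618, M306), ([5, 3, 5, 0], 189, M310), ([3, 5, 0], 463, M314), ([4, 0, 3, 5], 736, M318), ([0, 5, 2, 0], 196, M322), ([2, 5, 0, 5], 205, M326), ([4, 3, 4, 0, 4], 632, M330), ([0, 2, 4, 3, 0], 962, M334), ([3, 4, 4, 2, 0], 1093, M338), ([5, 2, 2, 4], 301, M342), ([5, 3, 4, 0, 3, 0], 3364, M346), ([3, 0, 3, 5, 0], 1996, M350), ([0, 2, 0, 5, 3, 0], 1650, M354), ([3, 0, 5, 0], 1750, M358), ([3, 4, 3, 3, 4], 1535, M362), ([4, 0, 2, 5], 315, M366), ([3, 5, 0, 3, 0], 5331, M370), ([2, 0, 3, 0, 2, 0], 1811, M374), ([0, 5, 3, 0, 2, 0], 3830, M378), ([0, 5, 2, 0, 3, 5], 9274, M382), ([3, 0, 2, 2, 0], 929, M386), ([3, 0, 3, 3, 4], 559, M390), ([0, 4, 3, 0], 414, M394), ([2, 4, 3, 0], 415, M398), ([5, 3, 0, 4], 1344, M402), ([2, 5, 0, 3, 0], 751, M406), ([5, 2, 5, 2, 0], 2350, M410), ([5, 0, 2, 2, 4], 692, M414), ([3, 4, 0, 4, 4, 0], 2530, M418), ([0, 2, 5, 0, 4], 633, M422), ([3, 5, 3, 0, 5], 1891, M426)] from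 AllP.cons ⟨by decide +kernel, (hU.sends sd25), reach24, by decide +kernel⟩ (AllP.cons ⟨by decide +kernel, (hU.sends sd29), reach28, by decide +kernel⟩ (AllP.cons ⟨by decide +kernel, (hU.sends sd33), reach32, by decide +kernel⟩ (AllP.cons ⟨by decide +kernel, (hU.sends sd37), reach36, by decide +kernel⟩ (AllP.cons ⟨by decide +kernel, (hU.sends sd41), reach40, by decide +kernel⟩ (AllP.cons ⟨by decide +kernel, (hU.sends sd45), reach44, by decide +kernel⟩ (AllP.cons ⟨by decide +kernel, (hU.sends sd49), reach48, by decide +kernel⟩ (AllP.cons ⟨by decide +kernel, (hU.sends sd53), reach52, by decide +kernel⟩ (AllP.cons ⟨by decide +kernel, (hU.sends sd57), reach56, by decide +kernel⟩ (AllP.cons ⟨by decide +kernel, (hU.sends sd61), reach60, by decide +kernel⟩ (AllP.cons ⟨by decide +kernel, (hU.sends sd65), reach64, by decide +kernel⟩ (AllP.cons ⟨by decide +kernel, (hU.sends sd69), reach68, by decide +kernel⟩ (AllP.cons ⟨by decide +kernel, (hU.sends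 sd73), reach72, by decide +kernel⟩ (AllP.cons ⟨by decide +kernel, (hU.sends sd77), reach76, by decide +kernel⟩ (AllP.cons ⟨by decide +kernel, (hU.sends sd81), reach80, by decide +kernel⟩ (AllP.cons ⟨by decide +kernel, (hU.sends sd85), reach84, by decide +kernel⟩ (AllP.cons ⟨by decide +kernel, (hU.sends sd89), reach88, by decide +kernel⟩ (AllP.cons ⟨by decide +kernel, (hU.sends sd93), reach92, by decide +kernel⟩ (AllP.cons ⟨by decide +kernel, (hU.sends sd97), reach96, by decide +kernel⟩ (AllP.cons ⟨by decide +kernel, (hU.sends sd101), reach100, by decide +kernel⟩ (AllP.cons ⟨by decide +kernel, (hU.sends sd105), reach104, by decide +kernel⟩ (AllP.cons ⟨by decide +kernel, (hU.sends sd109), reach108, by decide +kernel⟩ (AllP.cons ⟨by decide +kernel, (hU.sends sd113), reach112, by decide +kernel⟩ (AllP.cons ⟨by decide +kernel, (hU.sends sd117), reach116, by decide +kernel⟩ (AllP.cons ⟨by decide +kernel, (hU.sends sd121), reach120, by decide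 +kernel⟩ (AllP.cons ⟨by decide +kernel, (hU.sends sd125), reach124, by decide +kernel⟩ (AllP.cons ⟨by decide +kernel, (hU.sends sd129), reach128, by decide +kernel⟩ (AllP.cons ⟨by decide +kernel, (hU.sends sd133), reach132, by decide +kernel⟩ (AllP.cons ⟨by decide +kernel, (hU.sends sd137), reach136, by decide +kernel⟩ (AllP.cons ⟨by decide +kernel, (hU.sends sd141), reach140, by decide +kernel⟩ (AllP.cons ⟨by decide +kernel, (hU.sends sd145), reach144, by decide +kernel⟩ (AllP.cons ⟨by decide +kernel, (hU.sends sd149), reach148, by decide +kernel⟩ (AllP.cons ⟨by decide +kernel, (hU.sends sd153), reach152, by decide +kernel⟩ (AllP.cons ⟨by decide +kernel, (hU.sends sd157), reach156, by decide +kernel⟩ (AllP.cons ⟨by decide +kernel, (hU.sends sd161), reach160, by decide +kernel⟩ (AllP.cons ⟨by decide +kernel, (hU.sends sd165), reach164, by decide +kernel⟩ (AllP.cons ⟨by decide +kernel, (hU.sends sd169), reach168, by decide +kernel⟩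 (AllP.cons ⟨by decide +kernel, (hU.sends sd173), reach172, by decide +kernel⟩ (AllP.cons ⟨by decide +kernel, (hU.sends sd177), reach176, by decide +kernel⟩ (AllP.cons ⟨by decide +kernel, (hU.sends sd181), reach180, by decide +kernel⟩ (AllP.cons ⟨by decide +kernel, (hU.sends sd185), reach184, by decide +kernel⟩ (AllP.cons ⟨by decide +kernel, (hU.sends sd189), reach188, by decide +kernel⟩ (AllP.cons ⟨by decide +kernel, (hU.sends sd193), reach192, by decide +kernel⟩ (AllP.cons ⟨by decide +kernel, (hU.sends sd197), reach196, by decide +kernel⟩ (AllP.cons ⟨by decide +kernel, (hU.sends sd201), reach200, by decide +kernel⟩ (AllP.cons ⟨by decide +kernel, (hU.sends sd205), reach204, by decide +kernel⟩ (AllP.cons ⟨by decide +kernel, (hU.sends sd209), reach208, by decide +kernel⟩ (AllP.cons ⟨by decide +kernel, (hU.sends sd213), reach212, by decide +kernel⟩ (AllP.cons ⟨by decide +kernel, (hU.sends sd217), reach216, by decide +kernel⟩ (AllP.cons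 ⟨by decide +kernel, (hU.sends sd221), reach220, by decide +kernel⟩ (AllP.cons ⟨by decide +kernel, (hU.sends sd225), reach224, by decide +kernel⟩ (AllP.cons ⟨by decide +kernel, (hU.sends sd229), reach228, by decide +kernel⟩ (AllP.cons ⟨by decide +kernel, (hU.sends sd233), reach232, by decide +kernel⟩ (AllP.cons ⟨by decide +kernel, (hU.sends sd237), reach236, by decide +kernel⟩ (AllP.cons ⟨by decide +kernel, (hU.sends sd241), reach240, by decide +kernel⟩ (AllP.cons ⟨by decide +kernel, (hU.sends sd245), reach244, by decide +kernel⟩ (AllP.cons ⟨by decide +kernel, (hU.sends sd249), reach248, by decide +kernel⟩ (AllP.cons ⟨by decide +kernel, (hU.sends sd253), reach252, by decide +kernel⟩ (AllP.cons ⟨by decide +kernel, (hU.sends sd257), reach256, by decide +kernel⟩ (AllP.cons ⟨by decide +kernel, (hU.sends sd261), reach260, by decide +kernel⟩ (AllP.cons ⟨by decide +kernel, (hU.sends sd265), reach264, by decide +kernel⟩ (AllP.cons ⟨by decide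 +kernel, (hU.sends sd269), reach268, by decide +kernel⟩ (AllP.cons ⟨by decide +kernel, (hU.sends sd273), reach272, by decide +kernel⟩ (AllP.cons ⟨by decide +kernel, (hU.sends sd277), reach276, by decide +kernel⟩ (AllP.cons ⟨by decide +kernel, (hU.sends sd281), reach280, by decide +kernel⟩ (AllP.cons ⟨by decide +kernel, (hU.sends sd285), reach284, by decide +kernel⟩ (AllP.cons ⟨by decide +kernel, (hU.sends sd289), reach288, by decide +kernel⟩ (AllP.cons ⟨by decide +kernel, (hU.sends sd293), reach292, by decide +kernel⟩ (AllP.cons ⟨by decide +kernel, (hU.sends sd297), reach296, by decide +kernel⟩ (AllP.cons ⟨by decide +kernel, (hU.sends sd301), reach300, by decide +kernel⟩ (AllP.cons ⟨by decide +kernel, (hU.sends sd305), reach304, by decide +kernel⟩ (AllP.cons ⟨by decide +kernel, (hU.sends sd309), reach308, by decide +kernel⟩ (AllP.cons ⟨by decide +kernel, (hU.sends sd313), reach312, by decide +kernel⟩ (AllP.cons ⟨by decide +kernel,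 (hU.sends sd317), reach316, by decide +kernel⟩ (AllP.cons ⟨by decide +kernel, (hU.sends sd321), reach320, by decide +kernel⟩ (AllP.cons ⟨by decide +kernel, (hU.sends sd325), reach324, by decide +kernel⟩ (AllP.cons ⟨by decide +kernel, (hU.sends sd329), reach328, by decide +kernel⟩ (AllP.cons ⟨by decide +kernel, (hU.sends sd333), reach332, by decide +kernel⟩ (AllP.cons ⟨by decide +kernel, (hU.sends sd337), reach336, by decide +kernel⟩ (AllP.cons ⟨by decide +kernel, (hU.sends sd341), reach340, by decide +kernel⟩ (AllP.cons ⟨by decide +kernel, (hU.sends sd345), reach344, by decide +kernel⟩ (AllP.cons ⟨by decide +kernel, (hU.sends sd349), reach348, by decide +kernel⟩ (AllP.cons ⟨by decide +kernel, (hU.sends sd353), reach352, by decide +kernel⟩ (AllP.cons ⟨by decide +kernel, (hU.sends sd357), reach356, by decide +kernel⟩ (AllP.cons ⟨by decide +kernel, (hU.sends sd361), reach360, by decide +kernel⟩ (AllP.cons ⟨by decide +kernel, (hU.sends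 sd365), reach364, by decide +kernel⟩ (AllP.cons ⟨by decide +kernel, (hU.sends sd369), reach368, by decide +kernel⟩ (AllP.cons ⟨by decide +kernel, (hU.sends sd373), reach372, by decide +kernel⟩ (AllP.cons ⟨by decide +kernel, (hU.sends sd377), reach376, by decide +kernel⟩ (AllP.cons ⟨by decide +kernel, (hU.sends sd381), reach380, by decide +kernel⟩ (AllP.cons ⟨by decide +kernel, (hU.sends sd385), reach384, by decide +kernel⟩ (AllP.cons ⟨by decide +kernel, (hU.sends sd389), reach388, by decide +kernel⟩ (AllP.cons ⟨by decide +kernel, (hU.sends sd393), reach392, by decide +kernel⟩ (AllP.cons ⟨by decide +kernel, (hU.sends sd397), reach396, by decide +kernel⟩ (AllP.cons ⟨by decide +kernel, (hU.sends sd401), reach400, by decide +kernel⟩ (AllP.cons ⟨by decide +kernel, (hU.sends sd405), reach404, by decide +kernel⟩ (AllP.cons ⟨by decide +kernel, (hU.sends sd409), reach408, by decide +kernel⟩ (AllP.cons ⟨by decide +kernel, (hU.sends sd413),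 reach412, by decide +kernel⟩ (AllP.cons ⟨by decide +kernel, (hU.sends sd417), reach416, by decide +kernel⟩ (AllP.cons ⟨by decide +kernel, (hU.sends sd421), reach420, by decide +kernel⟩ (AllP.cons ⟨by decide +kernel, (hU.sends sd425), reach424, by decide +kernel⟩ (AllP.cons ⟨by decide +kernel, (hU.sends sd429), reach428, by decide +kernel⟩ (AllP.nil))))))))))))))))))))))))))))))))))))))))))))))))))))))))))))))))))))))))))))))))))))))))))))))))))))))
theorem reach432 : Reach (U.lsub W430) 0 (ones 14976) := (Reach.grow hU (Reach.base _ 0) gr431)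
theorem orb435 : (orbS (U.lsub W430) 0).ncard = 14976 := reach432.ncard hU cl433 sz434
theorem orb435e : orbS (U.lsub W430) 0 = {c | Nat.testBit (ones 14976) c = true} := reach432.orb hU cl433
theorem reach439 : Reach (U.lsub W436) 4 M437 := (Reach.grow hU (Reach.base _ 4) gr438)
theorem orb442 : (orbS (U.lsub W436) 4).ncard = 2400 := reach439.ncard hU cl440 sz441
theorem orb442e : orbS (U.lsub W436) 4 = {c | Nat.testBit M437 c = true} := reach439.orb hU cl440
theorem conj {Γ : Type} [Group Γ] {g : ℕ → Γ} (ht : gsub 3 g = ⊤) (hc : Nat.card Γ = 35942400)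
    {ψ : Γ →* Equiv.Perm ℕ} (hψ : ∀ j < 3, ψ (g j) = U.fP [1, 3, 5] j) (u : Γ) :
    ∃ s ∈ wsub 3 g SW, ∃ w, w ∈ WL ∧ ∃ x ∈ wsub 3 g BW, u = s * ev (atm 3 g) w * x := by
  have : Finite Γ := Nat.finite_of_card_ne_zero (by rw [hc]; norm_num)
  have hl : U.Link ψ (atm 3 g) (2 * 3) :=
    Tab.Link.of (fun j hj => (hψ j hj).trans (by interval_cases j <;> rfl)) (by decide +kernel)
  have e : U.lsub W436 = (wsub 3 g BW).map ψ := hl.lsub_eq (by decide +kernel)
  have act : CosetAct (wsub 3 g BW) ψ 14976 := CosetAct.of_count (fun x hx => (hU.fixes fx443) _ (e.ge ⟨x, hx, rfl⟩))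
    (by rw [range_eq_gsub hψ ht]; exact (lsub_eq_gsub U [1, 3, 5]).symm ▸ orb435e)
    ((dvd_card_orb orb442).trans (e ▸ Subgroup.card_map_dvd _ _)) (hc.trans (by norm_num))
  exact hl.conjs (Z := ⊥) (P := fun w => w ∈ WL) act (by decide +kernel) (by simp) hX (by decide +kernel) u

end Cfsg.Agent.Spor.RuX
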